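import Groth.Agent.S1216
import Groth.Agent.L01.ValPic
import Groth.Agent.L07.CIFibre
import Groth.Agent.S9408
import Groth.Agent.S0406
import Groth.Agent.L23.GeomConnLsc.Valuation
import Mathlib.RingTheory.PicardGroup
import Groth.Agent.S2821
import Mathlib.RingTheory.Flat.TorsionFree

/-!
# Saturation of invertible ideals in smooth algebras over valuation rings
-/

universe u

set_option autoImplicit false
set_option linter.style.haveILetI false
set_option linter.unusedSectionVars false
set_option backward.isDefEq.respectTransparency false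
set_option backward.isDefEq.respectTransparency.types false

open TensorProduct

noncomputable section

namespace Groth.L23.CartierExt

/-- Locally principal ideals of domains with trivial Picard group are principal. -/
theorem exists_span_singleton_of_pic {T : Type u} [CommRing T] [IsDomain T] [Subsingleton (CommRing.Pic T)]
    (J : Ideal T) (hJ : J ≠ ⊥)
    (hloc : ∀ P : Ideal T, P.IsPrime → ∃ f ∈ J, ∃ t ∉ P, ∀ x ∈ J, f ∣ t * x) :
    ∃ f : T, f ≠ 0 ∧ J = Ideal.span {f} := by
  let Q := FractionRing T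
  let L : Submodule T Q := Submodule.map (Algebra.linearMap T Q) J
  let L' : Submodule T Q :=
    { carrier := {φ | ∀ x ∈ L, φ * x ∈ (1 : Submodule T Q)}
      add_mem' := fun ha hb x hx => by rw [add_mul]; exact add_mem (ha x hx) (hb x hx)
      zero_mem' := fun x _ => by rw [zero_mul]; exact zero_mem _
      smul_mem' := fun c φ hφ x hx => by rw [smul_mul_assoc]; exact Submodule.smul_mem _ c (hφ x hx) }
  have hle : L * L' ≤ 1 := Submodule.mul_le.2 fun x hx φ hφ => by rw [mul_comm]; exact hφ x hx
  have hge : (1 : Submodule T Q) ≤ L * L' := by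
    let 𝔞 : Ideal T := (L * L').comap (Algebra.linearMap T Q)
    suffices 𝔞 = ⊤ by
      rw [Submodule.one_eq_range]
      rintro _ ⟨c, rfl⟩
      exact (this.ge (Submodule.mem_top (x := c)) :)
    by_contra h
    obtain ⟨P, hP, hle⟩ := Ideal.exists_le_maximal 𝔞 h
    obtain ⟨f, hfJ, t, ht, hdvd⟩ := hloc P hP.isPrime
    have ht0 : t ≠ 0 := fun h0 => ht (h0 ▸ zero_mem _)
    have hf0 : f ≠ 0 := fun h0 => hJ (eq_bot_iff.2 fun x hx => by
      obtain ⟨c, hc⟩ := hdvd x hx
      rw [h0, zero_mul, mul_eq_zero] at hc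
      exact hc.resolve_left ht0)
    have hf0' : algebraMap T Q f ≠ 0 := fun h0 => hf0 (IsFractionRing.injective T Q (by rw [h0, map_zero]))
    have hφ : algebraMap T Q t / algebraMap T Q f ∈ L' := by
      rintro _ ⟨x, hx, rfl⟩
      obtain ⟨c, hc⟩ := hdvd x hx
      refine Submodule.one_eq_range (R := T) (A := Q) ▸ ⟨c, ?_⟩
      show algebraMap T Q c = algebraMap T Q t / algebraMap T Q f * algebraMap T Q x
      rw [div_mul_eq_mul_div, eq_div_iff hf0', ← map_mul, ← map_mul, hc, mul_comm]
    refine ht (hle ?_)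
    show algebraMap T Q t ∈ L * L'
    have := Submodule.mul_mem_mul (Submodule.mem_map_of_mem (f := Algebra.linearMap T Q) hfJ) hφ
    rwa [Algebra.linearMap_apply, mul_div_cancel₀ _ hf0'] at this
  let I : (Submodule T Q)ˣ := ⟨L, L', le_antisymm hle hge, by rw [mul_comm]; exact le_antisymm hle hge⟩
  haveI : Module.Invertible T ↥(I : Submodule T Q) := Module.Invertible.left (Submodule.tensorInvEquiv I)
  obtain ⟨e⟩ := (Module.Invertible.free_iff_linearEquiv (R := T) (M := ↥(I : Submodule T Q))).1 inferInstance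
  obtain ⟨f, hf, hfe⟩ := (Submodule.mem_map.1 (e.symm 1).2)
  have hfe' : algebraMap T Q f = (e.symm 1 : Q) := hfe
  have hgen : ∀ x ∈ J, ∃ c, x = c * f := fun x hx => by
    let x' : (I : Submodule T Q) := ⟨algebraMap T Q x, Submodule.mem_map_of_mem (f := Algebra.linearMap T Q) hx⟩
    refine ⟨e x', IsFractionRing.injective T Q ?_⟩
    have h1 : x' = e x' • e.symm 1 := e.injective (by rw [map_smul, e.apply_symm_apply, smul_eq_mul, mul_one])
    have h2 := congrArg (fun z : (I : Submodule T Q) => (z : Q)) h1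
    simp only [SetLike.val_smul, Algebra.smul_def, ← hfe'] at h2
    rw [map_mul]
    exact h2
  refine ⟨f, fun h0 => hJ (eq_bot_iff.2 fun x hx => ?_), le_antisymm (fun x hx => ?_) ?_⟩
  · obtain ⟨c, rfl⟩ := hgen x hx
    simp [h0]
  · obtain ⟨c, rfl⟩ := hgen x hx
    exact Ideal.mem_span_singleton'.2 ⟨c, rfl⟩
  · rwa [Ideal.span_le, Set.singleton_subset_iff]

section Local

variable {R B : Type u} [CommRing R] [IsDomain R] [ValuationRing R] [CommRing B] [IsLocalRing B] [Algebra R B]
  [IsLocalHom (algebraMap R B)] [Algebra.EssFiniteType R B] [Module.Flat R B]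

/-- Every element is a scalar times an element outside the special fibre. -/
theorem exists_content (x : B) (hx : x ≠ 0) :
    ∃ (c : R) (x' : B), c ≠ 0 ∧ x = algebraMap R B c * x' ∧
      x' ∉ (IsLocalRing.maximalIdeal R).map (algebraMap R B) := by
  obtain ⟨I, ⟨c, rfl⟩, hmem, hmin⟩ := Groth.Agent.S1216.result (A := R) (B := B) B x
  rw [Ideal.smul_top_eq_map, Submodule.restrictScalars_mem, Ideal.submodule_span_eq, Ideal.map_span,
    Set.image_singleton, Ideal.mem_span_singleton'] at hmem
  obtain ⟨x', rfl⟩ := hmem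
  have hc : c ≠ 0 := fun h => hx (by simp [h])
  refine ⟨c, x', hc, mul_comm _ _, fun h => ?_⟩
  have hmem' : x' * algebraMap R B c ∈
      (Ideal.span {c} * IsLocalRing.maximalIdeal R) • (⊤ : Submodule R B) := by
    rw [Ideal.smul_top_eq_map, Submodule.restrictScalars_mem, Ideal.map_mul, mul_comm x']
    exact Ideal.mul_mem_mul (Ideal.mem_map_of_mem _ (Ideal.mem_span_singleton_self c)) h
  obtain ⟨a, ha, hac⟩ := Ideal.mem_span_singleton_mul.1 (hmin _ hmem' (Ideal.mem_span_singleton_self c))
  exact (IsLocalRing.maximalIdeal.isMaximal R).ne_top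
    ((Ideal.eq_top_iff_one _).2 ((mul_left_eq_self₀.1 (by rw [mul_comm]; exact hac)).resolve_right hc ▸ ha))

theorem smul_left_cancel_of_flat {c : R} (hc : c ≠ 0) {x y : B}
    (h : algebraMap R B c * x = algebraMap R B c * y) : x = y := by
  have := Module.Flat.isSMulRegular_of_isRegular (M := B) (IsRegular.of_ne_zero hc)
  exact this (by simpa [Algebra.smul_def] using h)

theorem isDomain_of_prime_fibre (hp : ((IsLocalRing.maximalIdeal R).map (algebraMap R B)).IsPrime) : IsDomain B := by
  haveI : NoZeroDivisors B := ⟨fun {x y} h => by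
    by_contra hne
    push Not at hne
    obtain ⟨c, x', hc, rfl, hx'⟩ := exists_content (R := R) x hne.1
    obtain ⟨d, y', hd, rfl, hy'⟩ := exists_content (R := R) y hne.2
    have h0 : x' * y' = 0 := smul_left_cancel_of_flat (mul_ne_zero hc hd)
      (by rw [mul_zero, map_mul, ← h]; ring)
    exact (hp.mem_or_mem (h0 ▸ zero_mem _)).elim hx' hy'⟩
  exact NoZeroDivisors.to_isDomain B

/-- A saturated generically invertible ideal is principal. -/
theorem exists_span_singleton_of_saturated [IsRegularLocalRing (B ⧸ Groth.L01.ValPic.J R B)] (I : Ideal B)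
    (hsat : ∀ (s : R) (x : B), s ≠ 0 → algebraMap R B s * x ∈ I → x ∈ I) (hI : I ≠ ⊥)
    (hloc : ∀ P : Ideal B, P.IsPrime → (∀ s : R, s ≠ 0 → algebraMap R B s ∉ P) →
      ∃ f ∈ I, ∃ t ∉ P, ∀ x ∈ I, f ∣ t * x) :
    ∃ f : B, f ≠ 0 ∧ I = Ideal.span {f} := by
  haveI : IsDomain (B ⧸ Groth.L01.ValPic.J R B) := (Groth.Agent.S2821.result _).1
  have hp : ((IsLocalRing.maximalIdeal R).map (algebraMap R B)).IsPrime :=
    (Ideal.Quotient.isDomain_iff_prime (Groth.L01.ValPic.J R B)).1 inferInstance
  haveI := isDomain_of_prime_fibre hp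
  let M := Algebra.algebraMapSubmonoid B (nonZeroDivisors R)
  have hM : ∀ m ∈ M, ∃ s : R, s ≠ 0 ∧ algebraMap R B s = m := by
    rintro _ ⟨s, hs, rfl⟩
    exact ⟨s, nonZeroDivisors.ne_zero hs, rfl⟩
  have hMle : M ≤ nonZeroDivisors B := fun m hm => by
    obtain ⟨s, hs, rfl⟩ := hM m hm
    refine mem_nonZeroDivisors_of_ne_zero fun h => one_ne_zero (α := B) (smul_left_cancel_of_flat hs ?_)
    rw [mul_one, mul_zero, h]
  haveI : IsDomain (Localization M) := IsLocalization.isDomain_localization hMle
  haveI : Subsingleton (CommRing.Pic (Localization M)) := Groth.L01.ValPic.subsingleton_pic (R := R) (A := B)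
  let J := I.map (algebraMap B (Localization M))
  have hinj : Function.Injective (algebraMap B (Localization M)) := IsLocalization.injective _ hMle
  have hJ : J ≠ ⊥ := fun h => hI ((Ideal.map_eq_bot_iff_of_injective hinj).1 h)
  obtain ⟨g, hg, hgJ⟩ := exists_span_singleton_of_pic J hJ fun P hP => by
    obtain ⟨f, hf, t, ht, hd⟩ := hloc (P.comap (algebraMap B (Localization M))) inferInstance fun s hs hmem =>
      hP.ne_top (Ideal.eq_top_of_isUnit_mem _ hmem (IsLocalization.map_units _
        (⟨_, s, mem_nonZeroDivisors_of_ne_zero hs, rfl⟩ : M)))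
    refine ⟨algebraMap B _ f, Ideal.mem_map_of_mem _ hf, algebraMap B _ t, ht, fun x hx => ?_⟩
    obtain ⟨⟨⟨i, hi⟩, m⟩, hm⟩ := (IsLocalization.mem_map_algebraMap_iff M _).1 hx
    rw [← (IsLocalization.map_units (Localization M) m).dvd_mul_right, mul_assoc, hm, ← map_mul]
    exact map_dvd _ (hd i hi)
  obtain ⟨b, m, rfl⟩ := IsLocalization.exists_mk'_eq M g
  have hgJ' : J = Ideal.span {algebraMap B (Localization M) b} := by
    rw [hgJ, Ideal.span_singleton_eq_span_singleton]
    exact ⟨(IsLocalization.map_units (Localization M) m).unit, IsLocalization.mk'_spec _ b m⟩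
  have hb : b ≠ 0 := fun h => hJ (by rw [hgJ', h, map_zero, Ideal.span_singleton_eq_bot.2 rfl])
  have hback : ∀ x : B, algebraMap B (Localization M) x ∈ J → x ∈ I := fun x hx => by
    obtain ⟨⟨⟨i, hi⟩, m'⟩, hm'⟩ := (IsLocalization.mem_map_algebraMap_iff M _).1 hx
    obtain ⟨s, hs, hsm⟩ := hM m'.1 m'.2
    refine hsat s x hs ?_
    rw [← map_mul] at hm'
    rw [mul_comm, hsm, hinj hm']
    exact hi
  obtain ⟨c, f, hc, rfl, hf⟩ := exists_content (R := R) b hb
  have hf0 : f ≠ 0 := fun h => hb (by rw [h, mul_zero])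
  refine ⟨f, hf0, le_antisymm (fun x hx => ?_) ?_⟩
  · have hx' : algebraMap B (Localization M) x ∈ Ideal.span {algebraMap B (Localization M) (algebraMap R B c * f)} :=
      hgJ' ▸ Ideal.mem_map_of_mem _ hx
    obtain ⟨a, ha⟩ := Ideal.mem_span_singleton'.1 hx'
    obtain ⟨y, m', rfl⟩ := IsLocalization.exists_mk'_eq M a
    obtain ⟨s, hs, hsm⟩ := hM m'.1 m'.2
    have he : algebraMap R B s * x = y * (algebraMap R B c * f) := hinj (by
      rw [map_mul, hsm, ← ha, ← mul_assoc, mul_comm (algebraMap B (Localization M) m'.1), IsLocalization.mk'_spec,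
        map_mul, map_mul, map_mul])
    rcases eq_or_ne y 0 with rfl | hy
    · rw [zero_mul] at he
      rw [smul_left_cancel_of_flat hs (x := x) (y := 0) (by rw [he, mul_zero])]
      exact zero_mem _
    obtain ⟨d, y', hd, hyd, hy'⟩ := exists_content (R := R) y hy
    have he' : algebraMap R B s * x = algebraMap R B (d * c) * (y' * f) := by
      rw [he, hyd, map_mul]; ring
    rw [Ideal.mem_span_singleton]
    rcases ValuationRing.dvd_total s (d * c) with ⟨e, hde⟩ | ⟨e, hse⟩
    · rw [hde, map_mul, mul_assoc] at he'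
      exact ⟨algebraMap R B e * y', by rw [smul_left_cancel_of_flat hs he']; ring⟩
    · rw [hse, map_mul, mul_assoc] at he'
      have he'' := smul_left_cancel_of_flat (mul_ne_zero hd hc) he'
      by_cases hu : IsUnit e
      · refine (hu.map (algebraMap R B)).dvd_mul_left.1 ?_
        exact ⟨y', by rw [he'']; ring⟩
      · exact ((hp.mem_or_mem (he'' ▸ Ideal.mul_mem_right _ _
          (Ideal.mem_map_of_mem _ ((IsLocalRing.mem_maximalIdeal e).2 hu)))).elim hy' hf).elim
  · rw [Ideal.span_le, Set.singleton_subset_iff]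
    refine hsat c f hc (hback _ ?_)
    rw [hgJ']
    exact Ideal.mem_span_singleton_self _

end Local

end Groth.L23.CartierExt
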