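import Groth.Agent.L23.CartierExt.Smooth
import Groth.Agent.L22.Ideal
import Mathlib.AlgebraicGeometry.Morphisms.Smooth
import Mathlib.AlgebraicGeometry.Morphisms.ClosedImmersion
import Mathlib.AlgebraicGeometry.Morphisms.Affine
import Mathlib.RingTheory.RingHom.Smooth

/-!
# Closures of effective Cartier divisors of generic fibres of smooth affine schemes over valuation rings
-/

universe u

open CategoryTheory CategoryTheory.Limits AlgebraicGeometry TopologicalSpace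

set_option autoImplicit false
set_option linter.style.haveILetI false
set_option linter.unusedSectionVars false
set_option backward.isDefEq.respectTransparency false
set_option backward.isDefEq.respectTransparency.types false

noncomputable section

namespace Groth.L23.CartierExt

/-- Local generators of an effective Cartier ideal, on the global functions. -/
theorem exists_local_generator {P : Scheme.{u}} [IsAffine P] {I : P.IdealSheafData}
    (hI : BlowUp.IsEffCartierIdeal I) (Q : Ideal Γ(P, ⊤)) [Q.IsPrime] :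
    ∃ f ∈ I.ideal ⟨⊤, isAffineOpen_top P⟩, ∃ t ∉ Q,
      (∀ x ∈ I.ideal ⟨⊤, isAffineOpen_top P⟩, ∃ n : ℕ, f ∣ t ^ n * x) ∧ ∀ g, g * f = 0 → ∃ n : ℕ, t ^ n * g = 0 := by
  let hT := isAffineOpen_top P
  let x : P := hT.fromSpec (⟨Q, inferInstance⟩ : PrimeSpectrum Γ(P, ⊤))
  obtain ⟨U, hxU, f₀, -, -, hU⟩ := Groth.L22.Ideals.exists_generator hI x
  obtain ⟨t, htU, hxt⟩ := hT.exists_basicOpen_le (V := U.1) ⟨x, hxU⟩ trivial
  obtain ⟨hreg, hgen⟩ := hU (P.affineBasicOpen (U := ⟨⊤, hT⟩) t) htU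
  haveI := hT.isLocalization_basicOpen t
  set f₁ := P.presheaf.map (homOfLE htU).op f₀ with hf₁
  have htQ : t ∉ Q := by
    have : (⟨Q, inferInstance⟩ : PrimeSpectrum Γ(P, ⊤)) ∈ hT.fromSpec ⁻¹ᵁ P.basicOpen t := hxt
    rw [hT.fromSpec_preimage_basicOpen] at this
    exact this
  have hmap := I.map_ideal_basicOpen ⟨⊤, hT⟩ t
  rw [hgen] at hmap
  obtain ⟨a, m, ha⟩ := IsLocalization.exists_mk'_eq (Submonoid.powers t) (show Γ(P, P.basicOpen t) from f₁)
  have hamem : algebraMap Γ(P, ⊤) Γ(P, P.basicOpen t) a ∈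
      (I.ideal ⟨⊤, hT⟩).map (algebraMap Γ(P, ⊤) Γ(P, P.basicOpen t)) := by
    rw [← IsLocalization.mk'_spec Γ(P, P.basicOpen t) a m, ha]
    refine Ideal.mul_mem_right _ _ ?_
    show f₁ ∈ _
    exact hmap.symm.le (Ideal.mem_span_singleton_self _)
  obtain ⟨z, hz, hza⟩ := (IsLocalization.algebraMap_mem_map_algebraMap_iff (Submonoid.powers t)
    Γ(P, P.basicOpen t) _ _).1 hamem
  have hzu : IsUnit (algebraMap Γ(P, ⊤) Γ(P, P.basicOpen t) z) :=
    IsLocalization.map_units Γ(P, P.basicOpen t) (⟨z, hz⟩ : Submonoid.powers t)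
  have hf : Associated (show Γ(P, P.basicOpen t) from f₁) (algebraMap Γ(P, ⊤) Γ(P, P.basicOpen t) (z * a)) := by
    refine ⟨((IsLocalization.map_units Γ(P, P.basicOpen t) m).mul hzu).unit, ?_⟩
    rw [IsUnit.unit_spec, ← ha, ← mul_assoc, IsLocalization.mk'_spec, map_mul, mul_comm]
  refine ⟨z * a, hza, t, htQ, fun y hy => ?_, fun g hg => ?_⟩
  · have : algebraMap Γ(P, ⊤) Γ(P, P.basicOpen t) y ∈ Ideal.span {(show Γ(P, P.basicOpen t) from f₁)} :=
      hmap.le (Ideal.mem_map_of_mem _ hy)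
    rw [Ideal.mem_span_singleton, hf.dvd_iff_dvd_left] at this
    obtain ⟨c, hc⟩ := this
    obtain ⟨c₁, m', rfl⟩ := IsLocalization.exists_mk'_eq (Submonoid.powers t) c
    have heq : algebraMap Γ(P, ⊤) Γ(P, P.basicOpen t) (m'.1 * y) =
        algebraMap Γ(P, ⊤) Γ(P, P.basicOpen t) (z * a * c₁) := by
      rw [map_mul, map_mul _ (z * a), hc, mul_left_comm, IsLocalization.mk'_spec']
    obtain ⟨⟨_, k, rfl⟩, hk⟩ := (IsLocalization.eq_iff_exists (Submonoid.powers t) Γ(P, P.basicOpen t)).1 heq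
    obtain ⟨l, hl⟩ := m'.2
    refine ⟨k + l, t ^ k * c₁, ?_⟩
    have hk' : t ^ k * (m'.1 * y) = t ^ k * (z * a * c₁) := hk
    simp only at hl
    rw [pow_add, mul_assoc, hl, hk']
    ring
  · have h0 : algebraMap Γ(P, ⊤) Γ(P, P.basicOpen t) g = 0 := by
      refine (mem_nonZeroDivisors_iff_right.1 hreg) _ ?_
      obtain ⟨v, hv⟩ := hf.symm
      show algebraMap Γ(P, ⊤) Γ(P, P.basicOpen t) g * (show Γ(P, P.basicOpen t) from f₁) = 0
      rw [← hv, ← mul_assoc, ← map_mul, hg, map_zero, zero_mul]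
    obtain ⟨⟨_, k, rfl⟩, hk⟩ := (IsLocalization.map_eq_zero_iff (Submonoid.powers t) Γ(P, P.basicOpen t) g).1 h0
    exact ⟨k, hk⟩

/-- The closure of a Cartier divisor of the generic fibre of a smooth affine scheme is Cartier. -/
theorem isEffCartier_ker_affine {R K : Type u} [CommRing R] [IsDomain R] [ValuationRing R] [Field K] [Algebra R K]
    [IsFractionRing R K] {U P D : Scheme.{u}} [IsAffine U] (h : U ⟶ Spec (CommRingCat.of R)) [Smooth h]
    {a : P ⟶ U} {c : P ⟶ Spec (CommRingCat.of K)}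
    (sq : IsPullback a c h (Spec.map (CommRingCat.ofHom (algebraMap R K)))) (d : D ⟶ P) [IsClosedImmersion d]
    (hd : BlowUp.IsEffCartierIdeal d.ker) : BlowUp.IsEffCartierIdeal (d ≫ a).ker := by
  haveI : IsAffine P := IsAffine.of_isPullback sq
  haveI : IsAffineHom a := MorphismProperty.of_isPullback (P := @IsAffineHom) sq.flip inferInstance
  let φ : CommRingCat.of R ⟶ Γ(U, ⊤) := (Scheme.ΓSpecIso (CommRingCat.of R)).inv ≫ h.appTop
  let ψ : CommRingCat.of K ⟶ Γ(P, ⊤) := (Scheme.ΓSpecIso (CommRingCat.of K)).inv ≫ c.appTop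
  letI : Algebra R Γ(U, ⊤) := φ.hom.toAlgebra
  letI : Algebra K Γ(P, ⊤) := ψ.hom.toAlgebra
  letI : Algebra Γ(U, ⊤) Γ(P, ⊤) := a.appTop.hom.toAlgebra
  letI : Algebra R Γ(P, ⊤) := (φ ≫ a.appTop).hom.toAlgebra
  have hsm : Algebra.Smooth R Γ(U, ⊤) := by
    have h1 : h.appTop.hom.Smooth := HasRingHomProperty.appTop @Smooth h inferInstance
    exact RingHom.smooth_algebraMap.1 ((RingHom.Smooth.propertyIsLocal.respectsIso).2 h.appTop.hom
      (Scheme.ΓSpecIso (CommRingCat.of R)).symm.commRingCatIsoToRingEquiv h1)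
  haveI := hsm
  have hpo : IsPushout (CommRingCat.ofHom (algebraMap R K)) φ ψ a.appTop :=
    ((isPushout_appTop_of_isPullback sq).flip).of_iso (Scheme.ΓSpecIso (CommRingCat.of R))
      (Scheme.ΓSpecIso (CommRingCat.of K)) (Iso.refl _) (Iso.refl _)
      (Scheme.ΓSpecIso_naturality _) (by simp [φ]) (by simp [ψ]) (by simp)
  have hφ : CommRingCat.ofHom (algebraMap R K) ≫ ψ = φ ≫ a.appTop := hpo.w
  haveI : IsScalarTower R K Γ(P, ⊤) := IsScalarTower.of_algebraMap_eq' (congrArg CommRingCat.Hom.hom hφ).symm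
  haveI : IsScalarTower R Γ(U, ⊤) Γ(P, ⊤) := IsScalarTower.of_algebraMap_eq' rfl
  haveI hpush : Algebra.IsPushout R K Γ(U, ⊤) Γ(P, ⊤) := CommRingCat.isPushout_iff_isPushout.1 hpo
  haveI : IsLocalization (Algebra.algebraMapSubmonoid Γ(U, ⊤) (nonZeroDivisors R)) Γ(P, ⊤) :=
    (Algebra.isLocalization_iff_isPushout (nonZeroDivisors R) K).2 hpush.symm
  have hker : (d ≫ a).ker.ideal ⟨⊤, isAffineOpen_top U⟩ =
      (d.ker.ideal ⟨⊤, isAffineOpen_top P⟩).comap (algebraMap Γ(U, ⊤) Γ(P, ⊤)) := by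
    rw [Scheme.Hom.ker_apply, Scheme.Hom.ker_apply, RingHom.comap_ker]
    rfl
  intro v
  let hT := isAffineOpen_top U
  let u : Ideal Γ(U, ⊤) := (hT.primeIdealOf ⟨v, trivial⟩).asIdeal
  obtain ⟨t, ht, f, hf, hgen⟩ := exists_basic_principal (R := R) (T := Γ(P, ⊤)) (d.ker.ideal ⟨⊤, isAffineOpen_top P⟩)
    (fun Q hQ => exists_local_generator hd Q) u
  haveI := hT.isLocalization_basicOpen t
  have hvt : v ∈ U.basicOpen t := by
    have h1 : hT.primeIdealOf ⟨v, trivial⟩ ∈ hT.fromSpec ⁻¹ᵁ U.basicOpen t := by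
      rw [hT.fromSpec_preimage_basicOpen]; exact ht
    have h2 : hT.fromSpec (hT.primeIdealOf ⟨v, trivial⟩) ∈ U.basicOpen t := h1
    rwa [hT.fromSpec_primeIdealOf] at h2
  let e := IsLocalization.algEquiv (Submonoid.powers t) (Localization.Away t) Γ(U, U.basicOpen t)
  refine ⟨U.affineBasicOpen (U := ⟨⊤, hT⟩) t, hvt, e f, ?_, ?_⟩
  · rw [mem_nonZeroDivisors_iff_right]
    intro y hy
    obtain ⟨y', rfl⟩ := e.surjective y
    rw [mem_nonZeroDivisors_iff_right.1 hf y' (e.injective (by rw [map_mul, map_zero]; exact hy)), map_zero]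
  · rw [← (d ≫ a).ker.map_ideal_basicOpen ⟨⊤, hT⟩ t, hker]
    show Ideal.map (algebraMap Γ(U, ⊤) Γ(U, U.basicOpen t)) _ = _
    rw [← e.toAlgHom.comp_algebraMap, ← Ideal.map_map, hgen, Ideal.map_span, Set.image_singleton]
    rfl

end Groth.L23.CartierExt
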