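import Groth.Agent.L23.CartierExt.Algebra
import Mathlib.RingTheory.FinitePresentation
import Mathlib.RingTheory.Smooth.Basic
import Mathlib.RingTheory.Localization.BaseChange
import Mathlib.RingTheory.FiniteType
import Mathlib.RingTheory.Polynomial.Basic

/-!
# Extension of locally principal ideals from the generic fibre of a smooth algebra over a valuation ring
-/

universe u

set_option autoImplicit false
set_option linter.style.haveILetI false
set_option linter.unusedSectionVars false
set_option backward.isDefEq.respectTransparency false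
set_option backward.isDefEq.respectTransparency.types false

open TensorProduct

noncomputable section

namespace Groth.L23.CartierExt

/-- Uniform multipliers on finitely generated ideals. -/
theorem exists_mul_dvd_of_fg {A : Type u} [CommRing A] (M : Submonoid A) {I : Ideal A} (hI : I.FG) (f a : A)
    (h : ∀ x ∈ I, ∃ m ∈ M, f ∣ m * (a * x)) : ∃ m ∈ M, ∀ x ∈ I, f ∣ m * (a * x) := by
  classical
  obtain ⟨s, rfl⟩ := hI
  choose! m hm hd using fun x (hx : x ∈ (s : Set A)) => h x (Submodule.subset_span hx)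
  refine ⟨∏ x ∈ s, m x, prod_mem fun x hx => hm x hx, fun x hx => ?_⟩
  induction hx using Submodule.span_induction with
  | mem x hx =>
    rw [← Finset.mul_prod_erase s m hx, mul_right_comm]
    exact (hd x hx).mul_right _
  | zero => simp
  | add x y _ _ hx hy => rw [mul_add, mul_add]; exact dvd_add hx hy
  | smul c x _ hx =>
    rw [smul_eq_mul, mul_left_comm a c, mul_left_comm _ c]
    exact hx.mul_left _

theorem isGeometricallyRegular_self (k : Type u) [Field k] : CAlg.IsGeometricallyRegular k k := fun k' _ _ _ => by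
  haveI : IsRegularRing k' := isRegularRing_iff.2 fun p _ => by
    haveI : IsField (Localization.AtPrime p) := (Field.toIsField k').localization_map_bijective
      (M := p.primeCompl) (fun h => h (zero_mem _)) |> fun h => by
        exact MulEquiv.isField (Field.toIsField k') (RingEquiv.ofBijective _ h).symm.toMulEquiv
    letI := this.toField
    infer_instance
  exact IsRegularRing.of_ringEquiv (R := k') (Algebra.TensorProduct.rid k k k').symm.toRingEquiv

theorem isNoetherianRing_generic {R A T : Type u} [CommRing R] [IsDomain R] [CommRing A] [Algebra R A]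
    [Algebra.FiniteType R A] [CommRing T] [Algebra A T]
    [IsLocalization (Algebra.algebraMapSubmonoid A (nonZeroDivisors R)) T] : IsNoetherianRing T := by
  haveI : IsNoetherianRing (FractionRing R ⊗[R] A) := Algebra.FiniteType.isNoetherianRing (FractionRing R) _
  letI : Algebra A (FractionRing R ⊗[R] A) := Algebra.TensorProduct.rightAlgebra
  haveI : IsLocalization (Algebra.algebraMapSubmonoid A (nonZeroDivisors R)) (FractionRing R ⊗[R] A) :=
    IsLocalization.tensorRight (FractionRing R) (nonZeroDivisors R)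
  exact isNoetherianRing_of_ringEquiv (FractionRing R ⊗[R] A)
    (IsLocalization.algEquiv (Algebra.algebraMapSubmonoid A (nonZeroDivisors R)) (FractionRing R ⊗[R] A) T).toRingEquiv

/-- The contraction of a locally principal ideal of the generic fibre is locally principal. -/
theorem exists_basic_principal {R A T : Type u} [CommRing R] [IsDomain R] [ValuationRing R] [CommRing A]
    [Algebra R A] [Algebra.Smooth R A] [CommRing T] [Algebra A T]
    [IsLocalization (Algebra.algebraMapSubmonoid A (nonZeroDivisors R)) T] (J : Ideal T)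
    (hJ : ∀ P : Ideal T, P.IsPrime → ∃ f ∈ J, ∃ t ∉ P,
      (∀ x ∈ J, ∃ n : ℕ, f ∣ t ^ n * x) ∧ ∀ g, g * f = 0 → ∃ n : ℕ, t ^ n * g = 0)
    (u : Ideal A) [u.IsPrime] :
    ∃ t ∉ u, ∃ f : Localization.Away t, f ∈ nonZeroDivisors (Localization.Away t) ∧
      (J.comap (algebraMap A T)).map (algebraMap A (Localization.Away t)) = Ideal.span {f} := by
  classical
  let M := Algebra.algebraMapSubmonoid A (nonZeroDivisors R)
  let I := J.comap (algebraMap A T)
  have hMmem : ∀ m ∈ M, ∃ r : R, r ≠ 0 ∧ algebraMap R A r = m := by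
    rintro _ ⟨r, hr, rfl⟩
    exact ⟨r, nonZeroDivisors.ne_zero hr, rfl⟩
  have hMunit : ∀ r : R, r ≠ 0 → IsUnit (algebraMap A T (algebraMap R A r)) := fun r hr =>
    IsLocalization.map_units T (⟨_, r, mem_nonZeroDivisors_of_ne_zero hr, rfl⟩ : M)
  have hAT : Function.Injective (algebraMap A T) := IsLocalization.injective T (fun m hm => by
    obtain ⟨r, hr, rfl⟩ := hMmem m hm
    refine mem_nonZeroDivisors_iff_right.2 fun x hx => ?_
    have := Module.Flat.isSMulRegular_of_isRegular (M := A) (IsRegular.of_ne_zero hr)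
    exact this (by simpa [Algebra.smul_def, mul_comm] using hx))
  -- finite generation
  have hflat : Module.Flat R (A ⧸ I) := by
    rw [Module.Flat.flat_iff_torsion_eq_bot_of_isBezout, eq_bot_iff]
    intro x hx
    obtain ⟨r, hr⟩ := hx
    obtain ⟨a, rfl⟩ := Ideal.Quotient.mk_surjective x
    rw [Submodule.mem_bot, Ideal.Quotient.eq_zero_iff_mem]
    have hra : algebraMap A T (algebraMap R A r.1 * a) ∈ J := by
      refine Ideal.mem_comap.1 (Ideal.Quotient.eq_zero_iff_mem.1 ?_)
      rw [map_mul, Ideal.Quotient.mk_algebraMap, ← Algebra.smul_def]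
      exact hr
    rw [map_mul] at hra
    exact (Ideal.unit_mul_mem_iff_mem J (hMunit _ (nonZeroDivisors.ne_zero r.2))).1 hra
  have hIfg : I.FG := by
    haveI : Algebra.FiniteType R (A ⧸ I) :=
      Algebra.FiniteType.of_surjective (Ideal.Quotient.mkₐ R I) Ideal.Quotient.mk_surjective
    haveI : Algebra.FinitePresentation R (A ⧸ I) := Groth.Agent.S0406.result
    have := Algebra.FinitePresentation.ker_fG_of_surjective (Ideal.Quotient.mkₐ R I) Ideal.Quotient.mk_surjective
    rwa [show RingHom.ker (Ideal.Quotient.mkₐ R I).toRingHom = I from Ideal.mk_ker] at this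
  have hJmap : I.map (algebraMap A T) = J := IsLocalization.map_under M T J
  have hJfg : J.FG := hJmap ▸ hIfg.map _
  -- the local ring and its fibre
  let q : Ideal R := u.comap (algebraMap R A)
  haveI : u.LiesOver q := ⟨rfl⟩
  let B := Localization.AtPrime u
  let R₁ := Localization.AtPrime q
  haveI : ValuationRing R₁ := GeomConnLsc.valuationRing_localization q
  obtain ⟨alg, hlhom, hcomm, hflatB, P₀, hP₀, ⟨e⟩⟩ := Groth.L07.CIFibre.exists_local_map (S := A) q u
  haveI : IsScalarTower R R₁ B := IsScalarTower.of_algebraMap_eq fun r =>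
    ((hcomm r).trans (IsScalarTower.algebraMap_apply R A B r).symm).symm
  haveI : Algebra.EssFiniteType R B := Algebra.EssFiniteType.comp R A B
  haveI : Algebra.EssFiniteType R₁ B := Algebra.EssFiniteType.of_comp R R₁ B
  haveI : IsRegularRing (q.Fiber A) := by
    haveI : IsNoetherianRing q.ResidueField := inferInstance
    haveI := Groth.Agent.S9408.result q.ResidueField q.ResidueField (q.Fiber A)
      (isGeometricallyRegular_self q.ResidueField) q.ResidueField inferInstance
    exact IsRegularRing.of_ringEquiv (R := q.ResidueField ⊗[q.ResidueField] q.Fiber A)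
      (Algebra.TensorProduct.lid q.ResidueField _).toRingEquiv
  haveI : IsRegularLocalRing (Localization.AtPrime P₀) := IsRegularRing.isRegularLocalRing_localization P₀
  haveI hreg : IsRegularLocalRing (B ⧸ Groth.L01.ValPic.J R₁ B) := IsRegularLocalRing.of_ringEquiv (R := Localization.AtPrime P₀) e
  haveI : IsDomain B := isDomain_of_prime_fibre (R := R₁) ((Ideal.Quotient.isDomain_iff_prime
    (Groth.L01.ValPic.J R₁ B)).1 (Groth.Agent.S2821.result _).1)
  -- the transported hypothesis
  have key : ∀ PB : Ideal B, PB.IsPrime → (∀ s : R₁, s ≠ 0 → algebraMap R₁ B s ∉ PB) →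
      ∃ f₁ ∈ I, algebraMap A B f₁ ≠ 0 ∧ ∃ t₁ : A, algebraMap A B t₁ ∉ PB ∧ ∀ i ∈ I, f₁ ∣ t₁ * i := by
    intro PB hPB havoid
    let Q : Ideal A := PB.comap (algebraMap A B)
    haveI : Q.IsPrime := inferInstance
    have hdisj : Disjoint (M : Set A) (Q : Set A) := Set.disjoint_left.2 fun m hm hmQ => by
      obtain ⟨r, hr, rfl⟩ := hMmem m hm
      refine havoid (algebraMap R R₁ r)
        (fun h => hr (IsLocalization.injective R₁ q.primeCompl_le_nonZeroDivisors (by rw [h, map_zero]))) ?_
      rw [hcomm]; exact hmQ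
    have hQmem : ∀ a, algebraMap A T a ∈ Q.map (algebraMap A T) ↔ a ∈ Q := fun a => by
      have := IsLocalization.under_map_of_isPrime_disjoint M T (inferInstance : Q.IsPrime) hdisj
      exact SetLike.ext_iff.1 this a
    have hQT := IsLocalization.isPrime_of_isPrime_disjoint M T Q inferInstance hdisj
    obtain ⟨f, hf, t, ht, hdvd, hreg'⟩ := hJ _ hQT
    obtain ⟨t', ht', hdvd'⟩ := exists_mul_dvd_of_fg (Submonoid.powers t) hJfg f 1 fun x hx => by
      obtain ⟨n, hn⟩ := hdvd x hx
      exact ⟨t ^ n, ⟨n, rfl⟩, by rwa [one_mul]⟩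
    obtain ⟨n₀, rfl⟩ := ht'
    obtain ⟨f₁, m, rfl⟩ := IsLocalization.exists_mk'_eq M f
    obtain ⟨t₀, m', hm'⟩ := IsLocalization.exists_mk'_eq M (t ^ n₀)
    have hf₁ : f₁ ∈ I := by
      show algebraMap A T f₁ ∈ J
      rw [← IsLocalization.mk'_spec T f₁ m]
      exact Ideal.mul_mem_right _ _ hf
    have ht₀ : t₀ ∉ Q := fun h => ht (hQT.mem_of_pow_mem n₀ (by
      rw [← hm', IsLocalization.mk'_eq_mul_mk'_one]
      exact Ideal.mul_mem_right _ _ (Ideal.mem_map_of_mem _ h)))
    have hstep : ∀ i ∈ I, ∃ m₁ ∈ M, f₁ ∣ m₁ * (t₀ * i) := fun i hi => by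
      obtain ⟨c, hc⟩ := hdvd' (algebraMap A T i) hi
      obtain ⟨c₁, m'', rfl⟩ := IsLocalization.exists_mk'_eq M c
      simp only [one_mul] at hc
      rw [← hm'] at hc
      have hc' : algebraMap A T (m.1 * m''.1 * (t₀ * i)) = algebraMap A T (f₁ * (c₁ * m'.1)) := by
        simp only [map_mul]
        rw [← IsLocalization.mk'_spec T t₀ m', ← IsLocalization.mk'_spec T c₁ m'', ← IsLocalization.mk'_spec T f₁ m]
        linear_combination (algebraMap A T m.1 * algebraMap A T m''.1 * algebraMap A T m'.1) * hc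
      exact ⟨m.1 * m''.1, mul_mem m.2 m''.2, c₁ * m'.1, hAT hc'⟩
    obtain ⟨m₀, hm₀, hdvd₀⟩ := exists_mul_dvd_of_fg M hIfg f₁ t₀ hstep
    refine ⟨f₁, hf₁, fun h0 => ?_, m₀ * t₀, ?_, fun i hi => by rw [mul_assoc]; exact hdvd₀ i hi⟩
    · obtain ⟨⟨w, hw⟩, hw0⟩ := (IsLocalization.map_eq_zero_iff u.primeCompl B f₁).1 h0
      have hw0' : algebraMap A T w * IsLocalization.mk' T f₁ m = 0 := by
        rw [IsLocalization.mul_mk'_eq_mk'_of_mul]
        exact (congrArg (fun z => IsLocalization.mk' T z m) hw0).trans (IsLocalization.mk'_zero _)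
      obtain ⟨k, hk⟩ := hreg' _ hw0'
      have hwQ : w ∈ Q := (hQmem w).1
        (((hQT.mem_or_mem (hk ▸ zero_mem _)).resolve_left fun h => ht (hQT.mem_of_pow_mem k h)))
      exact hPB.ne_top (Ideal.eq_top_of_isUnit_mem _ hwQ (IsLocalization.map_units B (⟨w, hw⟩ : u.primeCompl)))
    · show ¬ (m₀ * t₀ ∈ Q)
      exact fun h => ((inferInstance : Q.IsPrime).mem_or_mem h).elim (Set.disjoint_left.1 hdisj hm₀) ht₀
  -- principal in the local ring
  let IB := I.map (algebraMap A B)
  obtain ⟨g, hg, hgI⟩ := exists_span_singleton_of_saturated (R := R₁) IB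
    (fun s x hs hsx => by
      obtain ⟨r, w, rfl⟩ := IsLocalization.exists_mk'_eq q.primeCompl s
      have hr : r ≠ 0 := fun h => hs (by rw [h, IsLocalization.mk'_zero])
      have hsx' : algebraMap A B (algebraMap R A r) * x ∈ IB := by
        rw [← hcomm, ← IsLocalization.mk'_spec R₁ r w, map_mul, mul_right_comm]
        exact Ideal.mul_mem_right _ _ hsx
      obtain ⟨a, v, rfl⟩ := IsLocalization.exists_mk'_eq u.primeCompl x
      rw [IsLocalization.mul_mk'_eq_mk'_of_mul, IsLocalization.mk'_mem_map_algebraMap_iff u.primeCompl] at hsx'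
      obtain ⟨z, hz, hzI⟩ := hsx'
      refine (IsLocalization.mk'_mem_map_algebraMap_iff u.primeCompl B _ _ _).2 ⟨z, hz, ?_⟩
      show algebraMap A T (z * a) ∈ J
      have hzJ : algebraMap A T (z * (algebraMap R A r * a)) ∈ J := hzI
      rw [mul_left_comm, map_mul] at hzJ
      exact (Ideal.unit_mul_mem_iff_mem J (hMunit r hr)).1 hzJ)
    (fun h => by
      obtain ⟨f₁, hf₁, hne, -⟩ := key ⊥ Ideal.isPrime_bot fun s hs h0 => one_ne_zero (α := B)
        (smul_left_cancel_of_flat hs (by rw [Ideal.mem_bot.1 h0, zero_mul, zero_mul]))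
      exact hne (Ideal.mem_bot.1 (h ▸ Ideal.mem_map_of_mem _ hf₁)))
    (fun PB hPB havoid => by
      obtain ⟨f₁, hf₁, -, t₁, ht₁, hd⟩ := key PB hPB havoid
      refine ⟨_, Ideal.mem_map_of_mem _ hf₁, _, ht₁, fun x hx => ?_⟩
      obtain ⟨⟨⟨i, hi⟩, v⟩, hv⟩ := (IsLocalization.mem_map_algebraMap_iff u.primeCompl B).1 hx
      rw [← (IsLocalization.map_units B v).dvd_mul_right, mul_assoc, hv, ← map_mul]
      exact map_dvd _ (hd i hi))
  -- spreading out
  obtain ⟨a, v, rfl⟩ := IsLocalization.exists_mk'_eq u.primeCompl g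
  have hgmem : IsLocalization.mk' B a v ∈ IB := hgI ▸ Ideal.mem_span_singleton_self _
  obtain ⟨z, hz, hza⟩ := (IsLocalization.mk'_mem_map_algebraMap_iff u.primeCompl B _ _ _).1 hgmem
  let f := z * a
  have hgI' : IB = Ideal.span {algebraMap A B f} := by
    rw [hgI, Ideal.span_singleton_eq_span_singleton]
    refine ⟨((IsLocalization.map_units B (⟨z, hz⟩ : u.primeCompl)).mul (IsLocalization.map_units B v)).unit, ?_⟩
    rw [IsUnit.unit_spec, mul_comm, mul_assoc, mul_comm _ (IsLocalization.mk' B a v), IsLocalization.mk'_spec,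
      ← map_mul]
  have hfB : algebraMap A B f ≠ 0 := fun h => hg (by
    have := congrArg (fun K : Ideal B => IsLocalization.mk' B a v ∈ K) hgI'
    simpa [h, hgmem] using this)
  obtain ⟨w₁, hw₁, hgen⟩ := exists_mul_dvd_of_fg u.primeCompl hIfg f 1 fun i hi => by
    have himem : algebraMap A B i ∈ IB := Ideal.mem_map_of_mem _ hi
    rw [hgI', Ideal.mem_span_singleton] at himem
    obtain ⟨c, hc⟩ := himem
    obtain ⟨c₁, v', rfl⟩ := IsLocalization.exists_mk'_eq u.primeCompl c
    obtain ⟨v'', hv''⟩ := (IsLocalization.eq_iff_exists u.primeCompl B).1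
      (show algebraMap A B (v'.1 * i) = algebraMap A B (f * c₁) by
        rw [map_mul, map_mul, hc, mul_left_comm, IsLocalization.mk'_spec'])
    exact ⟨v''.1 * v'.1, mul_mem v''.2 v'.2, v''.1 * c₁, by rw [one_mul, mul_assoc, hv'']; ring⟩
  -- the annihilator
  haveI : Algebra.FiniteType R A := inferInstance
  haveI : IsNoetherianRing T := isNoetherianRing_generic (R := R) (A := A)
  let N : Ideal T := (⊥ : Ideal T).colon {algebraMap A T f}
  have hNfg : N.FG := IsNoetherian.noetherian N
  have hNmem : ∀ x, x ∈ N ↔ x * algebraMap A T f = 0 := fun x => by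
    simp [N, Submodule.mem_colon_singleton]
  let NA : Ideal A := N.comap (algebraMap A T)
  have hNmap : NA.map (algebraMap A T) = N := IsLocalization.map_under M T N
  obtain ⟨m₂, hm₂, hann⟩ : ∃ m₂ ∈ u.primeCompl, ∀ x ∈ N, algebraMap A T m₂ * x = 0 := by
    obtain ⟨σ, hσ⟩ := hNfg
    have hgen' : ∀ x ∈ σ, ∃ m₂ ∈ u.primeCompl, algebraMap A T m₂ * x = 0 := fun x hx => by
      obtain ⟨x₁, mx, rfl⟩ := IsLocalization.exists_mk'_eq M x
      have hxN : IsLocalization.mk' T x₁ mx * algebraMap A T f = 0 :=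
        (hNmem _).1 (hσ ▸ Submodule.subset_span hx)
      have hx0 : x₁ * f = 0 := hAT (by
        rw [map_mul, ← IsLocalization.mk'_spec T x₁ mx, map_zero, mul_right_comm, hxN, zero_mul])
      have hxB : algebraMap A B x₁ = 0 :=
        (mul_eq_zero.1 (by rw [← map_mul, hx0, map_zero])).resolve_right hfB
      obtain ⟨w, hw⟩ := (IsLocalization.map_eq_zero_iff u.primeCompl B x₁).1 hxB
      exact ⟨w.1, w.2, by rw [IsLocalization.mul_mk'_eq_mk'_of_mul, hw, IsLocalization.mk'_zero]⟩
    choose! mm hmm hmx using hgen'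
    refine ⟨∏ x ∈ σ, mm x, prod_mem hmm, fun x hx => ?_⟩
    rw [← hσ] at hx
    induction hx using Submodule.span_induction with
    | mem x hx => rw [← Finset.mul_prod_erase σ mm hx, map_mul, mul_right_comm, hmx x hx, zero_mul]
    | zero => simp
    | add x y _ _ hx hy => rw [mul_add, hx, hy, add_zero]
    | smul c x _ hx => rw [smul_eq_mul, mul_left_comm, hx, mul_zero]
  refine ⟨w₁ * m₂, u.primeCompl.mul_mem hw₁ hm₂, algebraMap A _ f, ?_, le_antisymm ?_ ?_⟩
  · refine mem_nonZeroDivisors_iff_right.2 fun y hy => ?_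
    obtain ⟨b, l, rfl⟩ := IsLocalization.exists_mk'_eq (Submonoid.powers (w₁ * m₂)) y
    rw [mul_comm (IsLocalization.mk' _ b l), IsLocalization.mul_mk'_eq_mk'_of_mul, IsLocalization.mk'_eq_zero_iff] at hy
    obtain ⟨l', hl'⟩ := hy
    rw [IsLocalization.mk'_eq_zero_iff]
    refine ⟨⟨(w₁ * m₂) * l'.1, mul_mem (Submonoid.mem_powers _) l'.2⟩, hAT ?_⟩
    have hx : algebraMap A T (l'.1 * b) ∈ N := (hNmem _).2 (by
      rw [← map_mul, show l'.1 * b * f = l'.1 * (f * b) by ring, hl', map_zero])
    show algebraMap A T (w₁ * m₂ * l'.1 * b) = algebraMap A T 0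
    rw [show w₁ * m₂ * l'.1 * b = w₁ * (m₂ * (l'.1 * b)) by ring, map_mul, map_mul _ m₂, hann _ hx, mul_zero,
      map_zero]
  · refine Ideal.map_le_iff_le_comap.2 fun i hi => ?_
    rw [Ideal.mem_comap, Ideal.mem_span_singleton]
    have hu' : IsUnit (algebraMap A (Localization.Away (w₁ * m₂)) w₁) :=
      isUnit_of_dvd_unit (map_dvd _ (Dvd.intro m₂ rfl))
        (IsLocalization.Away.algebraMap_isUnit (S := Localization.Away (w₁ * m₂)) (w₁ * m₂))
    rw [← hu'.dvd_mul_left, ← map_mul]
    exact map_dvd _ (by simpa using hgen i hi)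
  · rw [Ideal.span_le, Set.singleton_subset_iff]
    exact Ideal.mem_map_of_mem _ hza

end Groth.L23.CartierExt
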