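import Groth.Agent.L23.CartierExt.Geometry
import Groth.Agent.L23.EffCartierSub
import Groth.Agent.L23.CutOutApps
import Groth.Agent.L23.Epi
import Groth.Agent.L13.BlowUp.Local

/-!
# Extending effective Cartier divisors over valuation rings in smooth algebraic spaces
-/

universe u

open CategoryTheory CategoryTheory.Limits AlgebraicGeometry Opposite AlgSp TopologicalSpace

set_option autoImplicit false
set_option linter.style.haveILetI false
set_option linter.unusedSectionVars false
set_option backward.isDefEq.respectTransparency false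
set_option backward.isDefEq.respectTransparency.types false

noncomputable section

namespace Groth.L23.CartierExt

variable {S : Scheme.{u}}

/-- Factoring through a closed subspace is checked by ideals on an atlas. -/
theorem exists_factor_of_ker_le {X F Z : Sp S} {U : Over S} {p : (yon S).obj U ⟶ X} (hp : RepWith @Etale p)
    (hps : RepWith @Surjective p) {i : Z ⟶ X} (hi : RepWith @IsClosedImmersion i) {f : F ⟶ X} (hf : Representable f)
    (h : (hi.1.snd p).left.ker ≤ (hf.snd p).left.ker) : ∃ k : F ⟶ Z, k ≫ i = f := by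
  haveI : IsClosedImmersion (hi.1.snd p).left := repWith_snd hi p
  haveI := mono_of_closedImmersion hi
  let l : hf.pullback p ⟶ hi.1.pullback p := Over.homMk (IsClosedImmersion.lift (hi.1.snd p).left (hf.snd p).left h)
    (by rw [← Over.w (hi.1.snd p), IsClosedImmersion.lift_fac_assoc, Over.w])
  have hl : l ≫ hi.1.snd p = hf.snd p := Over.OverMorphism.ext (IsClosedImmersion.lift_fac _ _ _)
  haveI := epi_of_repWith (hf.fst p) (repWith_of_isPullback (hf.isPullback p).flip hp)
    (repWith_of_isPullback (hf.isPullback p).flip hps)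
  refine exists_factor_of_epi_of_mono (hf.fst p) i f ((yon S).map l ≫ hi.1.fst p) ?_
  rw [Category.assoc, (hi.1.isPullback p).w, ← Functor.map_comp_assoc, hl, (hf.isPullback p).w]

theorem mono_specMap_fractionRing (R K : Type u) [CommRing R] [Field K] [Algebra R K] [IsFractionRing R K] :
    Mono (Spec.map (CommRingCat.ofHom (algebraMap R K))) := by
  haveI : Epi (CommRingCat.ofHom (algebraMap R K)) :=
    IsLocalization.epi (nonZeroDivisors R) K
  exact inferInstanceAs (Mono (Scheme.Spec.map (CommRingCat.ofHom (algebraMap R K)).op))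

/-- The divisor on a chart. -/
theorem exists_chart_data {X XK D : Sp S} {gK : XK ⟶ X} (hgA : RepWith @IsAffineHom gK) (hgF : RepWith @Flat gK)
    {i : D ⟶ XK} (hD : IsEffCartierSub i) (hj : RepWith @QuasiCompact (i ≫ gK)) {V : Over S}
    (q : (yon S).obj V ⟶ X) (hq : RepWith @Etale q) :
    ∃ (P : Over S) (a : P ⟶ V) (pK : (yon S).obj P ⟶ XK), IsPullback pK ((yon S).map a) gK q ∧
      Flat a.left ∧ IsClosedImmersion (hD.1.1.snd pK).left ∧ BlowUp.IsEffCartierIdeal (hD.1.1.snd pK).left.ker ∧
      (hj.1.snd q).left.ker = ((hD.1.1.snd pK).left ≫ a.left).ker := by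
  have sP := hgA.1.isPullback q
  have hpK : RepWith @Etale (hgA.1.fst q) := repWith_of_isPullback sP.flip hq
  refine ⟨_, _, _, sP, repWith_prop hgF sP, repWith_snd hD.1 _, EffCart.isEffCartier_ker hD hpK, ?_⟩
  have sqD := (hD.1.1.isPullback (hgA.1.fst q)).paste_vert sP
  rw [← Functor.map_comp] at sqD
  rw [← Over.comp_left]
  exact CutOut.ker_snd_eq hj.1 sqD

/-- On an affine chart the closure is an effective Cartier divisor. -/
theorem isEffCartier_chart {R K : Type u} [CommRing R] [IsDomain R] [ValuationRing R] [Field K] [Algebra R K]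
    [IsFractionRing R K] {str : Spec (CommRingCat.of R) ⟶ S} {X XK D : Sp S}
    {f : X ⟶ (yon S).obj (Over.mk str)} (hf : LocP @Smooth f) {gK : XK ⟶ X}
    {fK : XK ⟶ (yon S).obj (Over.mk (Spec.map (CommRingCat.ofHom (algebraMap R K)) ≫ str))}
    (hXK : IsPullback gK fK f ((yon S).map (Over.homMk (Spec.map (CommRingCat.ofHom (algebraMap R K))) rfl :
      Over.mk (Spec.map (CommRingCat.ofHom (algebraMap R K)) ≫ str) ⟶ Over.mk str)))
    (hgA : RepWith @IsAffineHom gK) (hgF : RepWith @Flat gK) {i : D ⟶ XK} (hD : IsEffCartierSub i)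
    (hj : RepWith @QuasiCompact (i ≫ gK)) {V : Over S} [IsAffine V.left] (q : (yon S).obj V ⟶ X)
    (hq : RepWith @Etale q) : BlowUp.IsEffCartierIdeal (hj.1.snd q).left.ker := by
  obtain ⟨P, a, pK, sP, -, hdcl, hdeff, hker⟩ := exists_chart_data hgA hgF hD hj q hq
  haveI := hdcl
  obtain ⟨l, hl⟩ := (yon S).map_surjective (q ≫ f)
  haveI : Smooth l.left := hf q (𝟙 _) l hq (repWith_id _ _) (by rw [hl, Category.comp_id])
  have sqA := sP.flip.paste_vert hXK
  obtain ⟨c, hc⟩ := (yon S).map_surjective (pK ≫ fK)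
  rw [← hc, ← hl] at sqA
  have sqO := IsPullback.of_map_of_faithful (yon S) sqA
  rw [hker]
  exact isEffCartier_ker_affine (R := R) (K := K) l.left
    (sqO.map (Over.forget S)) (hD.1.1.snd pK).left hdeff

/-- Effective Cartier divisors of the generic fibre of a smooth space extend. -/
theorem exists_extension {R K : Type u} [CommRing R] [IsDomain R] [ValuationRing R] [Field K] [Algebra R K]
    [IsFractionRing R K] (str : Spec (CommRingCat.of R) ⟶ S) {X : Space S}
    (f : X.obj ⟶ (yon S).obj (Over.mk str)) (hf : LocP @Smooth f) {XK : Space S} (gK : XK ⟶ X)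
    (fK : XK.obj ⟶ (yon S).obj (Over.mk (Spec.map (CommRingCat.ofHom (algebraMap R K)) ≫ str)))
    (hXK : IsPullback gK.hom fK f ((yon S).map (Over.homMk (Spec.map (CommRingCat.ofHom (algebraMap R K))) rfl :
      Over.mk (Spec.map (CommRingCat.ofHom (algebraMap R K)) ≫ str) ⟶ Over.mk str)))
    {D : Space S} (i : D ⟶ XK) (hD : IsEffCartierSub i.hom) :
    ∃ (D' : Space S) (i' : D' ⟶ X) (k : D ⟶ D'),
      IsEffCartierSub i'.hom ∧ IsPullback k.hom i.hom i'.hom gK.hom := by
  let σ : Over.mk (Spec.map (CommRingCat.ofHom (algebraMap R K)) ≫ str) ⟶ Over.mk str :=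
    Over.homMk (Spec.map (CommRingCat.ofHom (algebraMap R K))) rfl
  have hσaff : IsAffineHom σ.left := inferInstanceAs (IsAffineHom (Spec.map (CommRingCat.ofHom (algebraMap R K))))
  have hσflat : Flat σ.left := by
    show Flat (Spec.map (CommRingCat.ofHom (algebraMap R K)))
    rw [HasRingHomProperty.Spec_iff (P := @Flat)]
    exact RingHom.flat_algebraMap_iff.2 (IsLocalization.flat K (nonZeroDivisors R))
  haveI : Mono ((yon S).map σ) := by
    haveI : Mono σ.left := mono_specMap_fractionRing R K
    haveI : Mono σ := (Over.forget S).mono_of_mono_map (inferInstanceAs (Mono σ.left))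
    infer_instance
  haveI : Mono gK.hom := hXK.mono_fst_of_mono
  have hgA : RepWith @IsAffineHom gK.hom := repWith_of_isPullback hXK.flip (repWith_map hσaff)
  have hgF : RepWith @Flat gK.hom := repWith_of_isPullback hXK.flip (repWith_map hσflat)
  have hi := hD.1
  have hj : RepWith @QuasiCompact (i.hom ≫ gK.hom) := repWith_comp (CutOut.repWith_quasiCompact_of_closedImmersion hi)
    (repWith_mono (fun φ (_ : IsAffineHom φ) => inferInstanceAs (QuasiCompact φ)) hgA)
  obtain ⟨U, R', s, t, p, hpres⟩ := exists_presentation X.property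
  have hp := hpres.etale
  have hps := hpres.surjective
  haveI : Etale s.left := hpres.eqvRel.etale_left
  haveI : Etale t.left := hpres.eqvRel.etale_right
  let I := (hj.1.snd p).left.ker
  have hinv : I.comap s.left = I.comap t.left :=
    (CutOut.comap_ker_qc hj s rfl).trans (CutOut.comap_ker_qc hj t hpres.isPullback.w).symm
  obtain ⟨Z, hZ, iZ, q₀, hiZ, sqZ⟩ := exists_subspace_of_ideal X.property hpres I hinv
  have hIZ : (hiZ.1.snd p).left.ker = I :=
    (CutOut.ker_snd_eq hiZ.1 sqZ).trans (Scheme.IdealSheafData.ker_subschemeι I)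
  have hcar : IsEffCartierSub iZ := by
    refine EffCart.isEffCartierSub_of_ker hiZ hp hps ?_
    rw [hIZ]
    refine Groth.L13.BU.isEffCartier_of_cover fun v => ?_
    obtain ⟨W, hW, hvW, -⟩ := exists_isAffineOpen_mem_and_subset (x := v) (U := ⊤) trivial
    refine ⟨_, W.ι, inferInstance, ⟨⟨v, hvW⟩, rfl⟩, ?_⟩
    haveI : IsAffine (CutOut.openPiece U W).left := hW
    have h1 := isEffCartier_chart hf hXK hgA hgF hD hj ((yon S).map (CutOut.openPieceι W) ≫ p)
      (repWith_comp (repWith_map (inferInstanceAs (Etale W.ι))) hp)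
    rw [← CutOut.comap_ker_qc hj (CutOut.openPieceι W) rfl] at h1
    exact h1
  -- the restriction to the generic fibre
  obtain ⟨P, a, pK, sP, haflat, hdcl, -, -⟩ := exists_chart_data hgA hgF hD hj p hp
  haveI := haflat
  have hpK : RepWith @Etale pK := repWith_of_isPullback sP.flip hp
  have hpKs : RepWith @Surjective pK := repWith_of_isPullback sP.flip hps
  obtain ⟨k, hk⟩ := exists_factor_of_ker_le hp hps hiZ hj.1 hIZ.le
  have hIa : I.comap a.left = (hi.1.snd pK).left.ker := by
    rw [CutOut.comap_ker_qc hj a (φ' := pK ≫ gK.hom) sP.w.symm]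
    have e : IsPullback pK (𝟙 _) gK.hom (pK ≫ gK.hom) :=
      IsPullback.of_id_snd.paste_horiz (IsKernelPair.id_of_mono gK.hom)
    have sqD := (hi.1.isPullback pK).paste_vert e
    rw [Category.comp_id] at sqD
    exact CutOut.ker_snd_eq hj.1 sqD
  have sQ := IsPullback.of_hasPullback iZ gK.hom
  have hQ : RepWith @IsClosedImmersion (pullback.snd iZ gK.hom) := repWith_of_isPullback sQ hiZ
  have hQker : (hQ.1.snd pK).left.ker = (hi.1.snd pK).left.ker := by
    have h1 := CutOut.ker_snd_eq hiZ.1 ((hQ.1.isPullback pK).paste_horiz sQ)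
    rw [← h1, ← comap_ker_snd hiZ a sP.w.symm, hIZ, hIa]
  haveI := mono_of_closedImmersion hi
  haveI := mono_of_closedImmersion hQ
  obtain ⟨θ, hθ⟩ := exists_factor_of_ker_le hpK hpKs hi hQ.1 hQker.ge
  let l : D.obj ⟶ pullback iZ gK.hom := pullback.lift k i.hom hk
  have hl : l ≫ pullback.snd iZ gK.hom = i.hom := pullback.lift_snd _ _ _
  haveI : IsIso l := ⟨θ, by rw [← cancel_mono i.hom, Category.assoc, hθ, hl, Category.id_comp],
    by rw [← cancel_mono (pullback.snd iZ gK.hom), Category.assoc, hl, hθ, Category.id_comp]⟩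
  refine ⟨⟨Z, hZ⟩, ObjectProperty.homMk iZ, ObjectProperty.homMk k, hcar, ?_⟩
  exact sQ.of_iso (asIso l).symm (Iso.refl _) (Iso.refl _) (Iso.refl _)
    (by simp [l]) (by simp [l]) (by simp) (by simp)

end Groth.L23.CartierExt
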